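import Cfsg.Agent.H38.NP.Dim

/-!
# The dimensions of the nonabelian irreducible modules of an `r`-group over a finite field (helper38)
-/

set_option autoImplicit false

namespace Cfsg.Agent.H38.NP

open Module

/-- `dim_F W = k r^i`, `i ≥ 1`, `r` divides `|F|^k - 1`. -/
theorem exists_dim_irr {F W R : Type*} [Field F] [Finite F] [AddCommGroup W] [Module F W] [Module.Finite F W] [Nontrivial W]
    [Group R] [Finite R] {r : ℕ} [Fact r.Prime] (hr2 : r ≠ 2) (hR : IsPGroup r R) (ρ : R →* Module.End F W)
    (hirr : ∀ U : Submodule F W, (∀ g, ∀ u ∈ U, ρ g u ∈ U) → U = ⊥ ∨ U = ⊤)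
    (hna : ∃ g h, ρ g * ρ h ≠ ρ h * ρ g) :
    ∃ k i, 1 ≤ i ∧ 1 ≤ k ∧ finrank F W = k * r ^ i ∧ r ∣ Nat.card F ^ k - 1 := by
  classical
  have hr : r.Prime := Fact.out
  obtain ⟨E, hE⟩ : ∃ E : Subalgebra F (Module.End F W), E = Subalgebra.centralizer F (Set.range ρ) := ⟨_, rfl⟩
  have hmem : ∀ a : Module.End F W, a ∈ E ↔ ∀ g, a * ρ g = ρ g * a := by
    intro a
    rw [hE, Subalgebra.mem_centralizer_iff]
    constructor
    · intro h g
      exact (h _ ⟨g, rfl⟩).symm
    · rintro h _ ⟨g, rfl⟩
      exact (h g).symm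
  haveI : Finite W := Module.finite_of_finite F
  haveI : Finite (Module.End F W) := Finite.of_injective (fun f : Module.End F W => (f : W → W)) DFunLike.coe_injective
  haveI : Finite E := inferInstance
  have hinj : ∀ a ∈ E, a ≠ 0 → ∀ w, a w = 0 → w = 0 := by
    intro a ha ha0 w hw
    rcases hirr (LinearMap.ker a) (fun g u hu => by
      rw [LinearMap.mem_ker] at hu ⊢
      have h1 := LinearMap.congr_fun ((hmem a).1 ha g) u
      rw [Module.End.mul_apply, Module.End.mul_apply, hu, map_zero] at h1
      exact h1) with h | h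
    · have : w ∈ LinearMap.ker a := hw
      rwa [h, Submodule.mem_bot] at this
    · exact absurd (LinearMap.ker_eq_top.1 h) ha0
  haveI : NoZeroDivisors E := ⟨by
    intro a b hab
    by_cases ha : a = 0
    · exact Or.inl ha
    · right
      apply Subtype.ext
      ext w
      have ha' : (a : Module.End F W) ≠ 0 := fun h => ha (Subtype.ext h)
      refine hinj a a.2 ha' _ ?_
      have h1 := congrArg (fun x : E => (x : Module.End F W) w) hab
      exact h1⟩
  haveI : IsDomain E := NoZeroDivisors.to_isDomain E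
  have hf : IsField E := Finite.isDomain_to_isField E
  letI := hf.toField
  haveI : IsScalarTower F E W := ⟨fun c e w => rfl⟩
  haveI : Module.Finite E W := Module.Finite.of_restrictScalars_finite F E W
  let ρ' : R →* Module.End E W :=
    { toFun := fun g =>
        { toFun := fun w => ρ g w
          map_add' := fun x y => map_add _ x y
          map_smul' := fun e w => by
            have h1 := LinearMap.congr_fun ((hmem e.1).1 e.2 g) w
            exact h1.symm }
      map_one' := by
        ext w
        show ρ 1 w = w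
        rw [map_one]
        rfl
      map_mul' := fun g h => by
        ext w
        show ρ (g * h) w = ρ g (ρ h w)
        rw [map_mul]
        rfl }
  have hρ' : ∀ g w, ρ' g w = ρ g w := fun g w => rfl
  have hirr' : ∀ U : Submodule E W, (∀ g, ∀ u ∈ U, ρ' g u ∈ U) → U = ⊥ ∨ U = ⊤ := by
    intro U hU
    rcases hirr (U.restrictScalars F) (fun g u hu => hU g u hu) with h | h
    · left
      rw [eq_bot_iff]
      intro u hu
      have h1 : u ∈ U.restrictScalars F := hu
      rwa [h] at h1
    · right
      rw [eq_top_iff]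
      intro u _
      have h1 : u ∈ U.restrictScalars F := by rw [h]; exact Submodule.mem_top
      exact h1
  -- the dimension
  obtain ⟨g0, h0, hgh⟩ := hna
  have hg0 : ρ g0 ≠ 1 := by
    intro h
    rw [h, one_mul, mul_one] at hgh
    exact hgh rfl
  -- the centre of the image
  let ρu : R →* (Module.End F W)ˣ := MonoidHom.toHomUnits ρ
  have hρu : ∀ g, ((ρu g : (Module.End F W)ˣ) : Module.End F W) = ρ g := fun g => rfl
  have hG : IsPGroup r ρu.range := hR.of_surjective ρu.rangeRestrict ρu.rangeRestrict_surjective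
  haveI : Finite ρu.range := Set.Finite.to_subtype (Set.finite_range ρu)
  haveI : Nontrivial ρu.range := by
    refine ⟨⟨⟨ρu g0, g0, rfl⟩, 1, fun h => hg0 ?_⟩⟩
    have h1 := congrArg (fun x : ρu.range => ((x : (Module.End F W)ˣ) : Module.End F W)) h
    exact h1
  haveI := hG.center_nontrivial
  obtain ⟨z, hz⟩ := exists_ne (1 : Subgroup.center ρu.range)
  have hzE : (((z : ρu.range) : (Module.End F W)ˣ) : Module.End F W) ∈ E := by
    rw [hmem]
    intro g
    have h1 := Subgroup.mem_center_iff.1 z.2 ⟨ρu g, g, rfl⟩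
    have h2 := congrArg (fun x : ρu.range => ((x : (Module.End F W)ˣ) : Module.End F W)) h1
    exact h2.symm
  obtain ⟨n, hn⟩ := hG (z : ρu.range)
  obtain ⟨e, he⟩ : ∃ e : E, e = ⟨_, hzE⟩ := ⟨_, rfl⟩
  have he1 : e ^ r ^ n = 1 := by
    apply Subtype.ext
    have h2 := congrArg (fun x : ρu.range => ((x : (Module.End F W)ˣ) : Module.End F W)) hn
    rw [he]
    simpa using h2
  have hene : e ≠ 1 := by
    intro h
    apply hz
    apply Subtype.ext
    apply Subtype.ext
    apply Units.ext
    have h2 := congrArg Subtype.val h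
    rw [he] at h2
    exact h2
  have hrE : r ∣ Nat.card E - 1 := by
    have he0 : e ≠ 0 := by
      intro h
      rw [h, zero_pow (pow_ne_zero n hr.ne_zero)] at he1
      exact zero_ne_one he1
    have h1 : orderOf (Units.mk0 e he0) ∣ r ^ n := by
      apply orderOf_dvd_of_pow_eq_one
      apply Units.ext
      simpa using he1
    obtain ⟨t, -, ht⟩ := (Nat.dvd_prime_pow hr).1 h1
    have ht0 : t ≠ 0 := by
      rintro rfl
      rw [pow_zero, orderOf_eq_one_iff] at ht
      apply hene
      have := congrArg Units.val ht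
      simpa using this
    have h2 : r ∣ orderOf (Units.mk0 e he0) := by
      rw [ht]
      exact dvd_pow_self r ht0
    have h3 := h2.trans (orderOf_dvd_natCard (Units.mk0 e he0))
    rwa [Nat.card_units] at h3
  obtain ⟨i, hi⟩ := dim_pow hr2 hrE hR ρ' hirr'
  refine ⟨finrank F E, i, ?_, ?_, ?_, ?_⟩
  · by_contra hi0
    have hi1 : i = 0 := by omega
    rw [hi1, pow_zero] at hi
    obtain ⟨w, hw, hspan⟩ := finrank_eq_one_iff'.1 hi
    apply hgh
    have hsc : ∀ g, ∃ a : E, ∀ v, ρ g v = a • v := by
      intro g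
      obtain ⟨a, ha⟩ := hspan (ρ g w)
      refine ⟨a, fun v => ?_⟩
      obtain ⟨b, hb⟩ := hspan v
      have h1 : ρ g v = ρ' g v := rfl
      rw [h1, ← hb, map_smul, hρ', ← ha, smul_smul, smul_smul, mul_comm]
    obtain ⟨a, ha⟩ := hsc g0
    obtain ⟨b, hb⟩ := hsc h0
    refine LinearMap.ext fun v => ?_
    rw [Module.End.mul_apply, Module.End.mul_apply, ha, hb, hb, ha, smul_smul, smul_smul, mul_comm]
  · exact finrank_pos
  · rw [← hi, finrank_mul_finrank]
  · rw [← Module.natCard_eq_pow_finrank]
    exact hrE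

end Cfsg.Agent.H38.NP
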