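import Cfsg.Agent.H38.NP.Dim

/-!
# Determinants of the endomorphisms of an irreducible module of an `r`-group (helper38)
-/

set_option autoImplicit false

namespace Cfsg.Agent.H38.NP

open Module

/-- For an irreducible module `W` over a finite field `F` of a finite `r`-group, `r` odd, the commuting ring is commutative and
the determinants of its elements contain all the `r^i`-th powers, for some `i`. -/
theorem exists_det {F W R : Type*} [Field F] [Finite F] [AddCommGroup W] [Module F W] [Module.Finite F W] [Nontrivial W]
    [Group R] [Finite R] {r : ℕ} [Fact r.Prime] (hr2 : r ≠ 2) (hR : IsPGroup r R) (ρ : R →* Module.End F W)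
    (hirr : ∀ U : Submodule F W, (∀ g, ∀ u ∈ U, ρ g u ∈ U) → U = ⊥ ∨ U = ⊤) :
    (∀ a b : Module.End F W, (∀ g, a * ρ g = ρ g * a) → (∀ g, b * ρ g = ρ g * b) → a * b = b * a) ∧
    ∃ i, ∀ μ : F, ∃ a : Module.End F W, (∀ g, a * ρ g = ρ g * a) ∧ LinearMap.det a = μ ^ (r ^ i) := by
  classical
  have hr : r.Prime := Fact.out
  obtain ⟨E, hE⟩ : ∃ E : Subalgebra F (Module.End F W), E = Subalgebra.centralizer F (Set.range ρ) := ⟨_, rfl⟩
  have hmem : ∀ a : Module.End F W, a ∈ E ↔ ∀ g, a * ρ g = ρ g * a := by
    intro a
    rw [hE, Subalgebra.mem_centralizer_iff]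
    constructor
    · intro h g
      exact (h _ ⟨g, rfl⟩).symm
    · rintro h _ ⟨g, rfl⟩
      exact (h g).symm
  haveI : Finite W := Module.finite_of_finite F
  haveI : Finite (Module.End F W) := Finite.of_injective (fun f : Module.End F W => (f : W → W)) DFunLike.coe_injective
  haveI : Finite E := inferInstance
  have hinj : ∀ a ∈ E, a ≠ 0 → ∀ w, a w = 0 → w = 0 := by
    intro a ha ha0 w hw
    rcases hirr (LinearMap.ker a) (fun g u hu => by
      rw [LinearMap.mem_ker] at hu ⊢
      have h1 := LinearMap.congr_fun ((hmem a).1 ha g) u
      rw [Module.End.mul_apply, Module.End.mul_apply, hu, map_zero] at h1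
      exact h1) with h | h
    · have : w ∈ LinearMap.ker a := hw
      rwa [h, Submodule.mem_bot] at this
    · exact absurd (LinearMap.ker_eq_top.1 h) ha0
  haveI : NoZeroDivisors E := ⟨by
    intro a b hab
    by_cases ha : a = 0
    · exact Or.inl ha
    · right
      apply Subtype.ext
      ext w
      have ha' : (a : Module.End F W) ≠ 0 := fun h => ha (Subtype.ext h)
      refine hinj a a.2 ha' _ ?_
      have h1 := congrArg (fun x : E => (x : Module.End F W) w) hab
      exact h1⟩
  haveI : IsDomain E := NoZeroDivisors.to_isDomain E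
  have hf : IsField E := Finite.isDomain_to_isField E
  refine ⟨fun a b ha hb => ?_, ?_⟩
  · exact congrArg Subtype.val (hf.mul_comm ⟨a, (hmem a).2 ha⟩ ⟨b, (hmem b).2 hb⟩)
  letI := hf.toField
  haveI : IsScalarTower F E W := ⟨fun c e w => rfl⟩
  haveI : Module.Finite E W := Module.Finite.of_restrictScalars_finite F E W
  let ρ' : R →* Module.End E W :=
    { toFun := fun g =>
        { toFun := fun w => ρ g w
          map_add' := fun x y => map_add _ x y
          map_smul' := fun e w => by
            have h1 := LinearMap.congr_fun ((hmem e.1).1 e.2 g) w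
            exact h1.symm }
      map_one' := by
        ext w
        show ρ 1 w = w
        rw [map_one]
        rfl
      map_mul' := fun g h => by
        ext w
        show ρ (g * h) w = ρ g (ρ h w)
        rw [map_mul]
        rfl }
  have hρ' : ∀ g w, ρ' g w = ρ g w := fun g w => rfl
  have hirr' : ∀ U : Submodule E W, (∀ g, ∀ u ∈ U, ρ' g u ∈ U) → U = ⊥ ∨ U = ⊤ := by
    intro U hU
    rcases hirr (U.restrictScalars F) (fun g u hu => hU g u hu) with h | h
    · left
      rw [eq_bot_iff]
      intro u hu
      have h1 : u ∈ U.restrictScalars F := hu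
      rwa [h] at h1
    · right
      rw [eq_top_iff]
      intro u _
      have h1 : u ∈ U.restrictScalars F := by rw [h]; exact Submodule.mem_top
      exact h1
  -- the dimension
  have hdim : ∃ i, finrank E W = r ^ i := by
    by_cases htr : ∀ g, ρ g = 1
    · refine ⟨0, ?_⟩
      rw [pow_zero]
      obtain ⟨w, hw⟩ := exists_ne (0 : W)
      refine finrank_eq_one w hw fun v => ?_
      rcases hirr' (Submodule.span E {w}) (fun g u hu => by
        rw [hρ', htr g]
        exact hu) with h | h
      · exfalso
        rw [Submodule.span_singleton_eq_bot] at h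
        exact hw h
      · have h1 : v ∈ Submodule.span E {w} := by rw [h]; exact Submodule.mem_top
        exact Submodule.mem_span_singleton.1 h1
    · push_neg at htr
      obtain ⟨g0, hg0⟩ := htr
      -- the centre of the image
      let ρu : R →* (Module.End F W)ˣ := MonoidHom.toHomUnits ρ
      have hρu : ∀ g, ((ρu g : (Module.End F W)ˣ) : Module.End F W) = ρ g := fun g => rfl
      have hG : IsPGroup r ρu.range := hR.of_surjective ρu.rangeRestrict ρu.rangeRestrict_surjective
      haveI : Finite ρu.range := Set.Finite.to_subtype (Set.finite_range ρu)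
      haveI : Nontrivial ρu.range := by
        refine ⟨⟨⟨ρu g0, g0, rfl⟩, 1, fun h => hg0 ?_⟩⟩
        have h1 := congrArg (fun x : ρu.range => ((x : (Module.End F W)ˣ) : Module.End F W)) h
        exact h1
      haveI := hG.center_nontrivial
      obtain ⟨z, hz⟩ := exists_ne (1 : Subgroup.center ρu.range)
      have hzE : (((z : ρu.range) : (Module.End F W)ˣ) : Module.End F W) ∈ E := by
        rw [hmem]
        intro g
        have h1 := Subgroup.mem_center_iff.1 z.2 ⟨ρu g, g, rfl⟩
        have h2 := congrArg (fun x : ρu.range => ((x : (Module.End F W)ˣ) : Module.End F W)) h1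
        exact h2.symm
      obtain ⟨n, hn⟩ := hG (z : ρu.range)
      obtain ⟨e, he⟩ : ∃ e : E, e = ⟨_, hzE⟩ := ⟨_, rfl⟩
      have he1 : e ^ r ^ n = 1 := by
        apply Subtype.ext
        have h2 := congrArg (fun x : ρu.range => ((x : (Module.End F W)ˣ) : Module.End F W)) hn
        rw [he]
        simpa using h2
      have hene : e ≠ 1 := by
        intro h
        apply hz
        apply Subtype.ext
        apply Subtype.ext
        apply Units.ext
        have h2 := congrArg Subtype.val h
        rw [he] at h2
        exact h2
      have hrE : r ∣ Nat.card E - 1 := by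
        have he0 : e ≠ 0 := by
          intro h
          rw [h, zero_pow (pow_ne_zero n hr.ne_zero)] at he1
          exact zero_ne_one he1
        have h1 : orderOf (Units.mk0 e he0) ∣ r ^ n := by
          apply orderOf_dvd_of_pow_eq_one
          apply Units.ext
          simpa using he1
        obtain ⟨t, -, ht⟩ := (Nat.dvd_prime_pow hr).1 h1
        have ht0 : t ≠ 0 := by
          rintro rfl
          rw [pow_zero, orderOf_eq_one_iff] at ht
          apply hene
          have := congrArg Units.val ht
          simpa using this
        have h2 : r ∣ orderOf (Units.mk0 e he0) := by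
          rw [ht]
          exact dvd_pow_self r ht0
        have h3 := h2.trans (orderOf_dvd_natCard (Units.mk0 e he0))
        rwa [Nat.card_units] at h3
      exact dim_pow hr2 hrE hR ρ' hirr'
  obtain ⟨i, hi⟩ := hdim
  refine ⟨i, fun μ => ?_⟩
  obtain ⟨a, ha⟩ := FiniteField.norm_surjective F E μ
  refine ⟨a, (hmem a).1 a.2, ?_⟩
  have h1 : (a : Module.End F W) = (a • (1 : Module.End E W)).restrictScalars F := by
    ext w
    rfl
  rw [h1, LinearMap.det_restrictScalars, LinearMap.det_smul, hi, map_one, mul_one, map_pow, ha]

end Cfsg.Agent.H38.NP
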