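import Cfsg.Agent.H38.NP.Proj

/-!
# The determinants of the centralizer of an `r`-subgroup of `GU_m(q)` (helper38)
-/

set_option autoImplicit false

namespace Cfsg.Agent.H38.NP

open Cfsg Module Cfsg.Agent.LieClassical.HermBasic
open Cfsg.Agent.H907 (ct herm_ct ct_mul ct_ct ext_of_herm mem_GU_iff_ct)
open scoped Matrix

variable {F : Type*} [Field F] [Fintype F] {m q : ℕ}

/-- Hilbert 90 -/
theorem hilbert90 (hF : Fintype.card F = q ^ 2) {ν : F} (h : ν ^ (q + 1) = 1) : ∃ μ : F, μ ≠ 0 ∧ μ = ν * μ ^ q := by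
  by_cases h1 : 1 + ν = 0
  · obtain ⟨t, ht⟩ := exists_not_fixed hF
    have h2 : ν = -1 := by linear_combination h1
    refine ⟨t - t ^ q, sub_ne_zero.2 (Ne.symm ht), ?_⟩
    rw [sub_pow_q hF, pow_q_pow_q hF, h2]
    ring
  · refine ⟨1 + ν, h1, ?_⟩
    rw [add_pow_q hF, one_pow, mul_add, ← pow_succ', h, mul_one, add_comm]

theorem toMatrix'_act (R : Subgroup (GL (Fin m) F)) (g : R) :
    LinearMap.toMatrix' (act R g) = ((g : GL (Fin m) F) : Matrix (Fin m) (Fin m) F) :=
  LinearMap.toMatrix'_toLin' _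

/-- The element `x y⁻¹`, `y` the adjoint of `x` -/
theorem exists_quot (hF : Fintype.card F = q ^ 2) {R : Subgroup (GL (Fin m) F)} (hU : R ≤ GU m F q)
    {x : Module.End F (Fin m → F)} (hx : ∀ g, x * act R g = act R g * x) (hxy : x * adj q x = adj q x * x)
    (hdet : LinearMap.det x ≠ 0) :
    ∃ c ∈ GU m F q, (∀ g ∈ R, c * g = g * c) ∧
      ((c : GL (Fin m) F) : Matrix (Fin m) (Fin m) F).det * LinearMap.det x ^ q = LinearMap.det x := by
  obtain ⟨y, hy⟩ : ∃ y, y = adj q x := ⟨_, rfl⟩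
  have hyx : adj q y = x := by rw [hy, adj_adj hF]
  have hyc : ∀ g, y * act R g = act R g * y := by
    intro g
    have h1 := congrArg (adj q) (hx g⁻¹)
    rw [adj_mul hF, adj_mul hF, adj_act hF hU, inv_inv, ← hy] at h1
    exact h1.symm
  have hdety : LinearMap.det y = LinearMap.det x ^ q := by rw [hy, det_adj hF]
  have hdety0 : LinearMap.det y ≠ 0 := by
    rw [hdety]
    exact pow_ne_zero _ hdet
  rw [← hy] at hxy
  have hXd : (LinearMap.toMatrix' x).det ≠ 0 := by rwa [LinearMap.det_toMatrix']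
  have hYd : (LinearMap.toMatrix' y).det ≠ 0 := by rwa [LinearMap.det_toMatrix']
  obtain ⟨X, hX⟩ : ∃ X : GL (Fin m) F, (X : Matrix (Fin m) (Fin m) F) = LinearMap.toMatrix' x :=
    ⟨Matrix.GeneralLinearGroup.mkOfDetNeZero _ hXd, rfl⟩
  obtain ⟨Y, hY⟩ : ∃ Y : GL (Fin m) F, (Y : Matrix (Fin m) (Fin m) F) = LinearMap.toMatrix' y :=
    ⟨Matrix.GeneralLinearGroup.mkOfDetNeZero _ hYd, rfl⟩
  have hXv : ∀ v, (X : Matrix (Fin m) (Fin m) F) *ᵥ v = x v := fun v => by
    rw [hX]
    exact LinearMap.toMatrix'_mulVec x v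
  have hYv : ∀ v, (Y : Matrix (Fin m) (Fin m) F) *ᵥ v = y v := fun v => by
    rw [hY]
    exact LinearMap.toMatrix'_mulVec y v
  have hXg : ∀ g ∈ R, X * g = g * X := by
    intro g hg
    apply Units.ext
    have h1 := congrArg LinearMap.toMatrix' (hx ⟨g, hg⟩)
    rw [LinearMap.toMatrix'_mul, LinearMap.toMatrix'_mul, toMatrix'_act, ← hX] at h1
    exact h1
  have hYg : ∀ g ∈ R, Y * g = g * Y := by
    intro g hg
    apply Units.ext
    have h1 := congrArg LinearMap.toMatrix' (hyc ⟨g, hg⟩)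
    rw [LinearMap.toMatrix'_mul, LinearMap.toMatrix'_mul, toMatrix'_act, ← hY] at h1
    exact h1
  have hXY : X * Y = Y * X := by
    apply Units.ext
    have h1 := congrArg LinearMap.toMatrix' hxy
    rw [LinearMap.toMatrix'_mul, LinearMap.toMatrix'_mul, ← hX, ← hY] at h1
    exact h1
  refine ⟨X * Y⁻¹, ?_, ?_, ?_⟩
  · intro u v
    have h1 : ∀ w : Fin m → F, ((X * Y⁻¹ : GL (Fin m) F) : Matrix (Fin m) (Fin m) F) *ᵥ w =
        x ((Y⁻¹ : GL (Fin m) F).1 *ᵥ w) := by
      intro w
      rw [← hXv, Matrix.mulVec_mulVec]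
      rfl
    have h2 : ∀ w : Fin m → F, y ((Y⁻¹ : GL (Fin m) F).1 *ᵥ w) = w := by
      intro w
      rw [← hYv, Matrix.mulVec_mulVec, Units.mul_inv, Matrix.one_mulVec]
    show hermForm m F q (((X * Y⁻¹ : GL (Fin m) F) : Matrix (Fin m) (Fin m) F) *ᵥ u)
      (((X * Y⁻¹ : GL (Fin m) F) : Matrix (Fin m) (Fin m) F) *ᵥ v) = _
    rw [h1, h1]
    conv_rhs => rw [← h2 u, ← h2 v]
    rw [herm_adj hF, ← hy]
    have h3 : y (x ((Y⁻¹ : GL (Fin m) F).1 *ᵥ v)) = x (y ((Y⁻¹ : GL (Fin m) F).1 *ᵥ v)) :=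
      LinearMap.congr_fun hxy.symm _
    rw [h3, ← herm_adj' hF, ← hy]
  · intro g hg
    rw [mul_assoc]
    have h1 : Y⁻¹ * g = g * Y⁻¹ := by
      rw [inv_mul_eq_iff_eq_mul, ← mul_assoc, hYg g hg, mul_assoc, mul_inv_cancel, mul_one]
    rw [h1, ← mul_assoc, hXg g hg, mul_assoc]
  · have h1 : (X * Y⁻¹) * Y = X := by group
    have h2 := congrArg (fun g : GL (Fin m) F => (g : Matrix (Fin m) (Fin m) F).det) h1
    simp only [Units.val_mul, Matrix.det_mul] at h2
    rw [hX, hY, LinearMap.det_toMatrix', LinearMap.det_toMatrix', hdety] at h2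
    simp only [Units.val_mul, Matrix.det_mul, hX, LinearMap.det_toMatrix']
    exact h2

/-- The determinants of the centralizer of an `r`-subgroup -/
theorem exists_cent (hF : Fintype.card F = q ^ 2) (hm : 0 < m) {r s b : ℕ} [Fact r.Prime] (hr2 : r ≠ 2) (hs : s.Prime)
    (hrs : r ≠ s) (hrF : (r : F) ≠ 0) {R : Subgroup (GL (Fin m) F)} (hU : R ≤ GU m F q) (hR : IsPGroup r R) {l : F}
    (h1 : l ^ (q + 1) = 1) (h2 : l ^ (s ^ b) = 1) :
    ∃ c ∈ GU m F q, (∀ g ∈ R, c * g = g * c) ∧ ((c : GL (Fin m) F) : Matrix (Fin m) (Fin m) F).det = l := by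
  classical
  have hr : r.Prime := Fact.out
  have hcard : (Nat.card R : F) ≠ 0 := by
    obtain ⟨n, hn⟩ := IsPGroup.iff_card.1 hR
    rw [hn, Nat.cast_pow]
    exact pow_ne_zero _ hrF
  obtain ⟨P, hPP, hPc, hP0, hPirr, hPadj⟩ := exists_proj hF hU hm hcard
  obtain ⟨W, hW⟩ : ∃ W, W = LinearMap.range P := ⟨_, rfl⟩
  have hPW : ∀ v, P v ∈ W := fun v => by rw [hW]; exact ⟨v, rfl⟩
  have hPw : ∀ w ∈ W, P w = w := by
    intro w hw
    rw [hW] at hw
    obtain ⟨v, rfl⟩ := hw
    rw [← Module.End.mul_apply, hPP]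
  have hWi : ∀ g : R, ∀ w ∈ W, act R g w ∈ W := by
    intro g w hw
    rw [← hPw w hw, ← Module.End.mul_apply, ← hPc, Module.End.mul_apply]
    exact hPW _
  let ρ : R →* Module.End F W :=
    { toFun := fun g => (act R g).restrict (hWi g)
      map_one' := by
        ext w
        show (act R 1 w : Fin m → F) _ = _
        rw [map_one]
        rfl
      map_mul' := fun g h => by
        refine LinearMap.ext fun w => Subtype.ext ?_
        show (act R (g * h) w : Fin m → F) = act R g (act R h w)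
        rw [map_mul]
        rfl }
  have hρ : ∀ (g : R) (w : W), ((ρ g w : W) : Fin m → F) = act R g w := fun g w => rfl
  haveI : Nontrivial W := by
    rw [Submodule.nontrivial_iff_ne_bot, hW]
    intro h
    exact hP0 (LinearMap.range_eq_bot.1 h)
  have hirr : ∀ U : Submodule F W, (∀ g, ∀ u ∈ U, ρ g u ∈ U) → U = ⊥ ∨ U = ⊤ := by
    intro U hUi
    rcases hPirr (U.map W.subtype) (by
      rintro g _ ⟨u, hu, rfl⟩
      exact ⟨ρ g u, hUi g u hu, rfl⟩) (by
      rw [← hW]
      exact Submodule.map_subtype_le W U) with h | h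
    · left
      rw [eq_bot_iff]
      intro u hu
      have h3 : (u : Fin m → F) ∈ U.map W.subtype := ⟨u, hu, rfl⟩
      rw [h, Submodule.mem_bot] at h3
      exact Subtype.ext h3
    · right
      rw [eq_top_iff]
      intro w _
      have h3 : (w : Fin m → F) ∈ U.map W.subtype := by
        rw [h, ← hW]
        exact w.2
      obtain ⟨u, hu, huw⟩ := h3
      have h4 : u = w := Subtype.ext huw
      rwa [← h4]
  obtain ⟨hcomm, i, hi⟩ := exists_det hr2 hR ρ hirr
  -- the number `ν`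
  obtain ⟨ν, hν1, hν2⟩ : ∃ ν : F, ν ^ (q + 1) = 1 ∧ ν ^ (r ^ i) = l := by
    have hl : orderOf l ∣ s ^ b := orderOf_dvd_of_pow_eq_one h2
    have hco : (r ^ i).Coprime (orderOf l) :=
      Nat.Coprime.coprime_dvd_right hl (Nat.Coprime.pow _ _ ((Nat.coprime_primes hr hs).2 hrs))
    obtain ⟨n, hn⟩ := exists_pow_eq_self_of_coprime hco
    refine ⟨l ^ n, ?_, ?_⟩
    · rw [← pow_mul, mul_comm, pow_mul, h1, one_pow]
    · rw [← pow_mul, mul_comm, pow_mul, hn]
  obtain ⟨μ, hμ0, hμ⟩ := hilbert90 hF hν1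
  obtain ⟨a, hac, hadet⟩ := hi μ
  -- the endomorphism `w`
  have hPr : ∀ v, (P v : Fin m → F) ∈ W := hPW
  obtain ⟨w, hw⟩ : ∃ w : Module.End F (Fin m → F), w = W.subtype ∘ₗ (a - 1) ∘ₗ P.codRestrict W hPW := ⟨_, rfl⟩
  have hwv : ∀ v, w v = ((a ⟨P v, hPW v⟩ : W) : Fin m → F) - P v := fun v => by rw [hw]; rfl
  have hPwe : P * w = w := by
    refine LinearMap.ext fun v => ?_
    rw [Module.End.mul_apply, hwv]
    exact hPw _ (W.sub_mem (Submodule.coe_mem _) (hPW v))
  have hwP : w * P = w := by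
    refine LinearMap.ext fun v => ?_
    have h3 : P (P v) = P v := hPw _ (hPW v)
    rw [Module.End.mul_apply, hwv, hwv]
    simp only [h3]
  have hwc : ∀ g, w * act R g = act R g * w := by
    intro g
    refine LinearMap.ext fun v => ?_
    rw [Module.End.mul_apply, Module.End.mul_apply, hwv, hwv, map_sub]
    have h3 : P (act R g v) = act R g (P v) := LinearMap.congr_fun (hPc g) v
    have h4 : (⟨P (act R g v), hPW _⟩ : W) = ρ g ⟨P v, hPW v⟩ := Subtype.ext h3
    have h5 := congrArg (Subtype.val) (LinearMap.congr_fun (hac g) ⟨P v, hPW v⟩)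
    rw [h4, h3]
    congr 1
  have hW'c : ∀ g, adj q w * act R g = act R g * adj q w := by
    intro g
    have h3 := congrArg (adj q) (hwc g⁻¹)
    rw [adj_mul hF, adj_mul hF, adj_act hF hU, inv_inv] at h3
    exact h3.symm
  have hww : w * adj q w = adj q w * w := by
    rcases hPadj with hA | ⟨hA, hB⟩
    · have e1 : P * adj q w = adj q w := by
        have h3 := congrArg (adj q) hwP
        rwa [adj_mul hF, hA] at h3
      have e2 : adj q w * P = adj q w := by
        have h3 := congrArg (adj q) hPwe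
        rwa [adj_mul hF, hA] at h3
      -- an endomorphism with `P z = z P = z` commuting with the action restricts to `W`
      have hres : ∀ z : Module.End F (Fin m → F), P * z = z → (∀ g, z * act R g = act R g * z) →
          ∃ z' : Module.End F W, (∀ g, z' * ρ g = ρ g * z') ∧ ∀ u : W, ((z' u : W) : Fin m → F) = z u := by
        intro z hz hzc
        have h3 : ∀ u ∈ W, z u ∈ W := by
          intro u _
          rw [← hz, Module.End.mul_apply]
          exact hPW _
        refine ⟨z.restrict h3, fun g => ?_, fun u => rfl⟩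
        refine LinearMap.ext fun u => Subtype.ext ?_
        exact LinearMap.congr_fun (hzc g) u
      obtain ⟨z1, hz1c, hz1⟩ := hres w hPwe hwc
      obtain ⟨z2, hz2c, hz2⟩ := hres (adj q w) e1 hW'c
      have h3 := hcomm z1 z2 hz1c hz2c
      have h4 : ∀ v, (w * adj q w) v = ((z1 * z2) ⟨P v, hPW v⟩ : W) := by
        intro v
        rw [Module.End.mul_apply, Module.End.mul_apply, hz1, hz2]
        show _ = w (adj q w (P v))
        rw [← Module.End.mul_apply (adj q w) P, e2]
      have h5 : ∀ v, (adj q w * w) v = ((z2 * z1) ⟨P v, hPW v⟩ : W) := by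
        intro v
        rw [Module.End.mul_apply, Module.End.mul_apply, hz2, hz1]
        show _ = adj q w (w (P v))
        rw [← Module.End.mul_apply w P, hwP]
      refine LinearMap.ext fun v => ?_
      rw [h4, h5, h3]
    · have e1 : w * adj q w = 0 := by
        have h3 : adj q w = adj q P * adj q w := by rw [← adj_mul hF, hwP]
        rw [h3, ← hwP, mul_assoc, ← mul_assoc P, hB, zero_mul, mul_zero]
      have e2 : adj q w * w = 0 := by
        have h3 : adj q w = adj q w * adj q P := by rw [← adj_mul hF, hPwe]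
        rw [h3, ← hPwe, mul_assoc, ← mul_assoc (adj q P), hA, zero_mul, mul_zero]
      rw [e1, e2]
  have hxc : ∀ g, (1 + w) * act R g = act R g * (1 + w) := by
    intro g
    rw [add_mul, mul_add, hwc g, one_mul, mul_one]
  have hxy : (1 + w) * adj q (1 + w) = adj q (1 + w) * (1 + w) := by
    rw [adj_add hF, adj_one hF]
    rw [add_mul, mul_add, mul_add, add_mul, mul_add, mul_add, hww]
    simp only [one_mul, mul_one]
    abel
  have hdet : LinearMap.det (1 + w) = μ ^ (r ^ i) := by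
    have h3 : W ≤ W.comap (1 + w) := by
      intro u hu
      rw [Submodule.mem_comap, LinearMap.add_apply, Module.End.one_apply]
      refine W.add_mem hu ?_
      rw [hwv]
      exact W.sub_mem (Submodule.coe_mem _) (hPW u)
    rw [LinearMap.det_eq_det_mul_det W (1 + w) h3, ← hadet]
    have h4 : (1 + w).restrict h3 = a := by
      refine LinearMap.ext fun u => Subtype.ext ?_
      show (u : Fin m → F) + w u = a u
      rw [hwv]
      have h5 : (⟨P u, hPW u⟩ : W) = u := Subtype.ext (hPw u u.2)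
      rw [h5, hPw u u.2, add_sub_cancel]
    have h5 : W.mapQ W (1 + w) h3 = LinearMap.id := by
      refine Submodule.linearMap_qext _ ?_
      refine LinearMap.ext fun v => ?_
      show Submodule.Quotient.mk (v + w v) = Submodule.Quotient.mk v
      rw [Submodule.Quotient.eq, add_sub_cancel_left, hwv]
      exact W.sub_mem (Submodule.coe_mem _) (hPW v)
    rw [h4, h5, LinearMap.det_id, mul_one]
  obtain ⟨c, hc, hcR, hcd⟩ := exists_quot hF hU hxc hxy (by rw [hdet]; exact pow_ne_zero _ hμ0)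
  refine ⟨c, hc, hcR, ?_⟩
  rw [hdet] at hcd
  have h6 : l * (μ ^ (r ^ i)) ^ q = μ ^ (r ^ i) := by
    rw [← hν2, ← pow_mul, mul_comm (r ^ i) q, pow_mul, ← mul_pow, ← hμ]
  have h7 : (μ ^ (r ^ i)) ^ q ≠ 0 := pow_ne_zero _ (pow_ne_zero _ hμ0)
  exact mul_right_cancel₀ h7 (hcd.trans h6.symm)

end Cfsg.Agent.H38.NP
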