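import Cfsg.Agent.H637.GLPart

/-!
# The dimension of an absolutely irreducible module of an `r`-group is a power of `r` (helper38)

`dim_pow`: let `R` be a finite `r`-group (`r` odd) acting linearly and irreducibly on the space `W` over the finite field `E`
with `r ∣ |E| - 1`. Then `dim_E W` is a power of `r`. Proof: if `n = r^i k'` with `r ∤ k'`, `k' > 1` then the group of block
diagonal matrices `GL_{r^i} × GL_{n - r^i}` contains a Sylow `r`-subgroup of `GL_n`.
-/

set_option autoImplicit false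

namespace Cfsg.Agent.H38.NP

open Matrix Cfsg.Agent.H637 Module

section card

variable {F : Type*} [Field F] [Fintype F] {r : ℕ} [Fact r.Prime]

theorem val_card_GL (hr2 : r ≠ 2) (hrF : r ∣ Fintype.card F - 1) (n : ℕ) :
    padicValNat r (Nat.card (GL (Fin n) F)) = n * padicValNat r (Fintype.card F - 1) + padicValNat r n.factorial := by
  have hr : r.Prime := Fact.out
  have h1 : 1 < Fintype.card F := Fintype.one_lt_card
  have hodd : Odd r := hr.odd_of_ne_two hr2
  have hnd : ¬ r ∣ Fintype.card F := by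
    intro h
    have h2 : r ∣ Fintype.card F - (Fintype.card F - 1) := Nat.dvd_sub h hrF
    have h3 : Fintype.card F - (Fintype.card F - 1) = 1 := by omega
    rw [h3] at h2
    exact hr.one_lt.ne' (Nat.dvd_one.1 h2)
  induction n with
  | zero =>
    have : Nat.card (GL (Fin 0) F) = 1 := by
      rw [Matrix.card_GL_field]
      simp
    rw [this]
    simp
  | succ n ih =>
    have h2 : Fintype.card F ^ (n + 1) - 1 ≠ 0 := by
      have := Nat.one_lt_pow (Nat.succ_ne_zero n) h1
      rw [Nat.succ_eq_add_one] at this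
      omega
    have h3 : Nat.card (GL (Fin n) F) ≠ 0 := Nat.card_pos.ne'
    have h4 : padicValNat r (Fintype.card F ^ (n + 1) - 1) = padicValNat r (Fintype.card F - 1) + padicValNat r (n + 1) := by
      have h5 := padicValNat.pow_sub_pow (p := r) (x := Fintype.card F) (y := 1) hodd h1 (by simpa using hrF) hnd
        (n := n + 1) (Nat.succ_ne_zero n)
      simpa using h5
    have h6 : ¬ r ∣ Fintype.card F ^ n := fun h => hnd (hr.dvd_of_dvd_pow h)
    rw [card_GL_succ, padicValNat.mul (mul_ne_zero h2 (pow_ne_zero _ (by omega))) h3,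
      padicValNat.mul h2 (pow_ne_zero _ (by omega)), padicValNat.eq_zero_of_not_dvd h6, h4, ih, Nat.factorial_succ,
      padicValNat.mul (Nat.succ_ne_zero n) (Nat.factorial_ne_zero n)]
    ring

/-- the index of the block diagonal subgroup -/
theorem index_blk (hr2 : r ≠ 2) (hrF : r ∣ Fintype.card F - 1) {j l : ℕ} (hch : ¬ r ∣ (j + l).choose j) :
    ¬ r ∣ (blk (Fin j) (Fin l) F).range.index := by
  have hr : r.Prime := Fact.out
  have hc1 : Nat.card (GL (Fin j ⊕ Fin l) F) = Nat.card (GL (Fin (j + l)) F) :=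
    Nat.card_congr (LieClassical.OmegaReindex.glReindex F finSumFinEquiv).toEquiv
  have hc2 : Nat.card (blk (Fin j) (Fin l) F).range = Nat.card (GL (Fin j) F) * Nat.card (GL (Fin l) F) := by
    rw [← Nat.card_prod]
    exact (Nat.card_congr (MonoidHom.ofInjective (blk_injective (ι := Fin j) (κ := Fin l) (F := F))).toEquiv).symm
  have h1 := Subgroup.card_mul_index (blk (Fin j) (Fin l) F).range
  rw [hc1, hc2] at h1
  have hj : Nat.card (GL (Fin j) F) ≠ 0 := Nat.card_pos.ne'
  have hl : Nat.card (GL (Fin l) F) ≠ 0 := Nat.card_pos.ne'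
  have hi : (blk (Fin j) (Fin l) F).range.index ≠ 0 := Subgroup.index_ne_zero_of_finite
  have h2 := congrArg (padicValNat r) h1
  rw [padicValNat.mul (mul_ne_zero hj hl) hi, padicValNat.mul hj hl, val_card_GL hr2 hrF, val_card_GL hr2 hrF,
    val_card_GL hr2 hrF] at h2
  have h3 : padicValNat r (j + l).factorial = padicValNat r j.factorial + padicValNat r l.factorial := by
    have h4 := Nat.choose_mul_factorial_mul_factorial (Nat.le_add_right j l)
    rw [Nat.add_sub_cancel_left] at h4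
    have h5 : (j + l).choose j ≠ 0 := (Nat.choose_pos (Nat.le_add_right j l)).ne'
    rw [← h4, padicValNat.mul (mul_ne_zero h5 (Nat.factorial_ne_zero j)) (Nat.factorial_ne_zero l),
      padicValNat.mul h5 (Nat.factorial_ne_zero j), padicValNat.eq_zero_of_not_dvd hch, zero_add]
  rw [h3] at h2
  have h6 : padicValNat r (blk (Fin j) (Fin l) F).range.index = 0 := by
    have : (j + l) * padicValNat r (Fintype.card F - 1) = j * padicValNat r (Fintype.card F - 1) +
      l * padicValNat r (Fintype.card F - 1) := by ring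
    omega
  intro h7
  have h8 := one_le_padicValNat_of_dvd hi h7
  omega

/-- an `r`-subgroup is conjugate into the block diagonal subgroup -/
theorem exists_conj_blk (hr2 : r ≠ 2) (hrF : r ∣ Fintype.card F - 1) {j l : ℕ} (hch : ¬ r ∣ (j + l).choose j)
    {R : Subgroup (GL (Fin j ⊕ Fin l) F)} (hR : IsPGroup r R) :
    ∃ g : GL (Fin j ⊕ Fin l) F, ∀ x ∈ R, g⁻¹ * x * g ∈ (blk (Fin j) (Fin l) F).range := by
  have h1 := index_blk hr2 hrF hch
  obtain ⟨c, hc⟩ := hR.nonempty_fixed_point_of_prime_not_dvd_card (GL (Fin j ⊕ Fin l) F ⧸ (blk (Fin j) (Fin l) F).range) h1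
  obtain ⟨g, rfl⟩ := QuotientGroup.mk_surjective c
  refine ⟨g, fun x hx => ?_⟩
  have h2 := hc ⟨x, hx⟩
  have h3 : ((x * g : GL (Fin j ⊕ Fin l) F) : GL (Fin j ⊕ Fin l) F ⧸ (blk (Fin j) (Fin l) F).range) = g := h2
  have h4 := QuotientGroup.eq.1 h3.symm
  rwa [← mul_assoc] at h4

end card

/-- the binomial coefficient -/
theorem not_dvd_choose {r : ℕ} [Fact r.Prime] (i k : ℕ) (hk : ¬ r ∣ k) : ¬ r ∣ (r ^ i * k).choose (r ^ i) := by
  have hr : r.Prime := Fact.out
  induction i with
  | zero => rwa [pow_zero, one_mul, Nat.choose_one_right]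
  | succ i ih =>
    intro h
    apply ih
    have h1 := Choose.choose_modEq_choose_mod_mul_choose_div_nat (p := r) (n := r ^ (i + 1) * k) (k := r ^ (i + 1))
    have e1 : r ^ (i + 1) * k % r = 0 := Nat.mod_eq_zero_of_dvd (Dvd.dvd.mul_right (dvd_pow_self r (Nat.succ_ne_zero i)) k)
    have e2 : r ^ (i + 1) % r = 0 := Nat.mod_eq_zero_of_dvd (dvd_pow_self r (Nat.succ_ne_zero i))
    have e3 : r ^ (i + 1) * k / r = r ^ i * k := by
      rw [pow_succ, mul_assoc, mul_comm r k, ← mul_assoc, Nat.mul_div_cancel _ hr.pos]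
    have e4 : r ^ (i + 1) / r = r ^ i := by rw [pow_succ, Nat.mul_div_cancel _ hr.pos]
    rw [e1, e2, e3, e4, Nat.choose_zero_right, one_mul] at h1
    exact (Nat.modEq_zero_iff_dvd.1 (h1.symm.trans (Nat.modEq_zero_iff_dvd.2 h)))

/-- **the dimension is a power of `r`** -/
theorem dim_pow {E W R : Type*} [Field E] [Finite E] [AddCommGroup W] [Module E W] [Module.Finite E W] [Nontrivial W]
    [Group R] [Finite R] {r : ℕ} [Fact r.Prime] (hr2 : r ≠ 2) (hrE : r ∣ Nat.card E - 1) (hR : IsPGroup r R)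
    (ρ : R →* Module.End E W) (hirr : ∀ U : Submodule E W, (∀ g, ∀ u ∈ U, ρ g u ∈ U) → U = ⊥ ∨ U = ⊤) :
    ∃ i, finrank E W = r ^ i := by
  classical
  have hr : r.Prime := Fact.out
  haveI : Fintype E := Fintype.ofFinite E
  rw [Nat.card_eq_fintype_card] at hrE
  obtain ⟨i, k, hk, hn⟩ := Nat.exists_eq_pow_mul_and_not_dvd (n := finrank E W) finrank_pos.ne' r hr.ne_one
  refine ⟨i, ?_⟩
  have hk0 : k ≠ 0 := by
    rintro rfl
    exact hk (dvd_zero r)
  by_contra hne
  have hk1 : 1 < k := by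
    rcases Nat.lt_or_ge 1 k with h | h
    · exact h
    · exfalso
      have h1 : k = 1 := by omega
      rw [h1, mul_one] at hn
      exact hne hn
  obtain ⟨l, hl⟩ : ∃ l, l = r ^ i * (k - 1) := ⟨_, rfl⟩
  have hjpos : 0 < r ^ i := pow_pos hr.pos i
  have hlpos : 0 < l := by
    rw [hl]
    exact Nat.mul_pos hjpos (by omega)
  have hjl : r ^ i + l = finrank E W := by
    rw [hn, hl]
    obtain ⟨k', rfl⟩ : ∃ k', k = k' + 1 := ⟨k - 1, by omega⟩
    rw [Nat.add_sub_cancel]
    ring
  have hch : ¬ r ∣ (r ^ i + l).choose (r ^ i) := by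
    rw [hjl, hn]
    exact not_dvd_choose i k hk
  let b : Basis (Fin (r ^ i) ⊕ Fin l) E W := (finBasisOfFinrankEq E W hjl.symm).reindex finSumFinEquiv.symm
  let Φ : R →* GL (Fin (r ^ i) ⊕ Fin l) E :=
    (Units.map (LinearMap.toMatrixAlgEquiv b).toMulEquiv.toMonoidHom).comp (MonoidHom.toHomUnits ρ)
  have hΦ : ∀ g w, (Φ g : Matrix _ _ E) *ᵥ (b.equivFun w) = b.equivFun (ρ g w) := by
    intro g w
    show (LinearMap.toMatrix b b (ρ g)) *ᵥ (b.repr w) = b.repr (ρ g w)
    exact LinearMap.toMatrix_mulVec_repr b b (ρ g) w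
  have hRr : IsPGroup r Φ.range := hR.of_surjective Φ.rangeRestrict Φ.rangeRestrict_surjective
  obtain ⟨c, hc⟩ := exists_conj_blk hr2 hrE hch hRr
  -- the invariant subspace
  let π : (Fin (r ^ i) ⊕ Fin l → E) →ₗ[E] (Fin l → E) := LinearMap.funLeft E E Sum.inr
  let T : W →ₗ[E] (Fin l → E) := π ∘ₗ (Matrix.toLin' (c⁻¹).val) ∘ₗ b.equivFun.toLinearMap
  have hT : ∀ w t, T w t = ((c⁻¹).val *ᵥ (b.equivFun w)) (Sum.inr t) := fun w t => by
    show (Matrix.toLin' (c⁻¹).val (b.equivFun w)) (Sum.inr t) = _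
    rw [Matrix.toLin'_apply]
  have hinv : ∀ g, ∀ u ∈ LinearMap.ker T, ρ g u ∈ LinearMap.ker T := by
    intro g u hu
    rw [LinearMap.mem_ker] at hu ⊢
    obtain ⟨A, hA⟩ := hc (Φ g) ⟨g, rfl⟩
    ext t
    rw [hT, ← hΦ, Matrix.mulVec_mulVec]
    have h1 : (c⁻¹).val * (Φ g : Matrix _ _ E) =
        (blk (Fin (r ^ i)) (Fin l) E A : Matrix _ _ E) * (c⁻¹).val := by
      rw [hA, ← Units.val_mul, ← Units.val_mul]
      congr 1
      group
    rw [h1, ← Matrix.mulVec_mulVec, coe_blk, Matrix.fromBlocks_mulVec, Sum.elim_inr, Matrix.zero_mulVec, zero_add]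
    have h2 : ((c⁻¹).val *ᵥ (b.equivFun u)) ∘ Sum.inr = 0 := by
      funext t
      exact congrFun hu t
    rw [h2, Matrix.mulVec_zero]
  -- every vector is of the form `c⁻¹ w`
  have hsurj : ∀ v : Fin (r ^ i) ⊕ Fin l → E, ∃ w, (c⁻¹).val *ᵥ (b.equivFun w) = v := by
    intro v
    refine ⟨b.equivFun.symm ((c : Matrix _ _ E) *ᵥ v), ?_⟩
    rw [LinearEquiv.apply_symm_apply, Matrix.mulVec_mulVec, ← Units.val_mul, inv_mul_cancel, Units.val_one,
      Matrix.one_mulVec]
  rcases hirr (LinearMap.ker T) hinv with h0 | h0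
  · obtain ⟨w, hw⟩ := hsurj (Sum.elim (fun _ => 1) 0)
    have h1 : w ∈ LinearMap.ker T := by
      rw [LinearMap.mem_ker]
      ext t
      rw [hT, hw]
      rfl
    rw [h0, Submodule.mem_bot] at h1
    rw [h1, map_zero, Matrix.mulVec_zero] at hw
    have h2 := congrFun hw (Sum.inl ⟨0, hjpos⟩)
    exact zero_ne_one h2
  · obtain ⟨w, hw⟩ := hsurj (Sum.elim 0 (fun _ => 1))
    have h1 : w ∈ LinearMap.ker T := by rw [h0]; exact Submodule.mem_top
    rw [LinearMap.mem_ker] at h1
    have h2 := congrFun h1 ⟨0, hlpos⟩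
    rw [hT, hw] at h2
    exact one_ne_zero h2

end Cfsg.Agent.H38.NP
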