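import Cfsg.Agent.H38.NP.Cent
import Cfsg.Agent.H907.FieldAdj

/-!
# Centralizers of `r`-subgroups of `GU_m(q)`: projections (helper38)
-/

set_option autoImplicit false

namespace Cfsg.Agent.H38.NP

open Cfsg Module Cfsg.Agent.LieClassical.HermBasic
open Cfsg.Agent.H907 (ct herm_ct ct_mul ct_ct ext_of_herm mem_GU_iff_ct)
open scoped Matrix

section adj

variable {F : Type*} [Field F] [Fintype F] {m q : ℕ}

/-- the adjoint of an endomorphism -/
noncomputable def adj (q : ℕ) (T : Module.End F (Fin m → F)) : Module.End F (Fin m → F) :=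
  Matrix.toLin' (ct q (LinearMap.toMatrix' T))

variable (hF : Fintype.card F = q ^ 2)
include hF

theorem herm_adj (T : Module.End F (Fin m → F)) (u v : Fin m → F) :
    hermForm m F q (T u) v = hermForm m F q u (adj q T v) := by
  have h1 : T u = LinearMap.toMatrix' T *ᵥ u := (LinearMap.toMatrix'_mulVec T u).symm
  rw [h1, herm_ct hF, adj, Matrix.toLin'_apply]

theorem herm_adj' (T : Module.End F (Fin m → F)) (u v : Fin m → F) :
    hermForm m F q (adj q T u) v = hermForm m F q u (T v) := by
  rw [herm_swap hF, ← herm_adj hF, ← herm_swap hF]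

theorem end_ext {A B : Module.End F (Fin m → F)}
    (h : ∀ u v, hermForm m F q u (A v) = hermForm m F q u (B v)) : A = B := by
  ext1 i
  ext1
  set v := (LinearMap.single F (fun _ : Fin m => F) i) 1 with hv
  show A v = B v
  have h1 : A v - B v = 0 := by
    apply herm_nondeg hF
    intro u
    apply herm_eq_zero_swap hF
    rw [herm_sub_right hF, h, sub_self]
  exact sub_eq_zero.1 h1

theorem adj_mul (A B : Module.End F (Fin m → F)) : adj q (A * B) = adj q B * adj q A := by
  apply end_ext hF
  intro u v
  rw [← herm_adj hF, Module.End.mul_apply, Module.End.mul_apply, ← herm_adj hF, ← herm_adj hF]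

theorem adj_adj (A : Module.End F (Fin m → F)) : adj q (adj q A) = A := by
  apply end_ext hF
  intro u v
  rw [← herm_adj hF, herm_adj' hF]

theorem adj_add (A B : Module.End F (Fin m → F)) : adj q (A + B) = adj q A + adj q B := by
  apply end_ext hF
  intro u v
  rw [← herm_adj hF, LinearMap.add_apply, LinearMap.add_apply, herm_add_left, herm_add_right hF, ← herm_adj hF,
    ← herm_adj hF]

theorem adj_one : adj q (1 : Module.End F (Fin m → F)) = 1 := by
  apply end_ext hF
  intro u v
  rw [← herm_adj hF]
  rfl

theorem adj_zero : adj q (0 : Module.End F (Fin m → F)) = 0 := by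
  apply end_ext hF
  intro u v
  rw [← herm_adj hF, LinearMap.zero_apply, LinearMap.zero_apply, herm_zero_left, herm_zero_right hF]

theorem adj_sub (A B : Module.End F (Fin m → F)) : adj q (A - B) = adj q A - adj q B := by
  have h1 := adj_add hF (A - B) B
  rw [sub_add_cancel] at h1
  rw [h1, add_sub_cancel_right]

theorem det_adj (T : Module.End F (Fin m → F)) : LinearMap.det (adj q T) = (LinearMap.det T) ^ q := by
  rw [adj, LinearMap.det_toLin', ← LinearMap.det_toMatrix' T]
  have h1 : ct q (LinearMap.toMatrix' T) = ((conj hF).toRingHom.mapMatrix (LinearMap.toMatrix' T))ᵀ := by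
    ext i j
    rfl
  rw [h1, Matrix.det_transpose, ← RingHom.map_det]
  rfl

end adj

section proj

variable {F : Type*} [Field F] [Fintype F] {m q : ℕ}

/-- the orthogonal space -/
def perp (q : ℕ) (U : Submodule F (Fin m → F)) : Submodule F (Fin m → F) where
  carrier := {v | ∀ u ∈ U, hermForm m F q v u = 0}
  add_mem' := by
    intro a b ha hb u hu
    rw [herm_add_left, ha u hu, hb u hu, add_zero]
  zero_mem' := by
    intro u hu
    rw [herm_zero_left]
  smul_mem' := by
    intro c a ha u hu
    rw [herm_smul_left, ha u hu, mul_zero]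

theorem mem_perp {U : Submodule F (Fin m → F)} {v : Fin m → F} :
    v ∈ perp q U ↔ ∀ u ∈ U, hermForm m F q v u = 0 := Iff.rfl

variable (hF : Fintype.card F = q ^ 2)

/-- the pairing -/
def pairing (q : ℕ) (U : Submodule F (Fin m → F)) (hF : Fintype.card F = q ^ 2) : (Fin m → F) →+ (U →ₗ[F] F) where
  toFun v :=
    { toFun := fun u => hermForm m F q (u : Fin m → F) v
      map_add' := fun a b => by rw [Submodule.coe_add, herm_add_left]
      map_smul' := fun c a => by rw [Submodule.coe_smul, herm_smul_left]; rfl }
  map_zero' := by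
    ext u
    exact herm_zero_right hF _
  map_add' v w := by
    ext u
    exact herm_add_right hF _ _ _

theorem pairing_apply (U : Submodule F (Fin m → F)) (v : Fin m → F) (u : U) :
    pairing q U hF v u = hermForm m F q (u : Fin m → F) v := rfl

theorem pairing_eq_zero_iff (U : Submodule F (Fin m → F)) (v : Fin m → F) :
    pairing q U hF v = 0 ↔ v ∈ perp q U := by
  rw [mem_perp]
  constructor
  · intro h u hu
    have h1 := LinearMap.congr_fun h ⟨u, hu⟩
    exact herm_eq_zero_swap hF h1
  · intro h
    ext u
    exact herm_eq_zero_swap hF (h u u.2)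

theorem card_dual (U : Submodule F (Fin m → F)) : Nat.card (U →ₗ[F] F) = Nat.card F ^ finrank F U := by
  have h1 : finrank F (U →ₗ[F] F) = finrank F U := Subspace.dual_finrank_eq
  rw [← h1]
  exact Module.natCard_eq_pow_finrank

include hF in
theorem finrank_perp (U : Submodule F (Fin m → F)) : m ≤ finrank F (perp q U) + finrank F U := by
  have h1 : Nat.card (Fin m → F) = Nat.card (pairing q U hF).ker * Nat.card (pairing q U hF).range := by
    rw [← (pairing q U hF).ker.card_mul_index, AddSubgroup.index_ker]
  have h2 : Nat.card (pairing q U hF).ker = Nat.card F ^ finrank F (perp q U) := by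
    rw [← Module.natCard_eq_pow_finrank]
    refine Nat.card_congr (Equiv.subtypeEquivRight fun v => ?_)
    exact (pairing_eq_zero_iff hF U v)
  have h3 : Nat.card (pairing q U hF).range ≤ Nat.card F ^ finrank F U := by
    rw [← card_dual]
    have : Finite (U →ₗ[F] F) := Module.finite_of_finite F
    exact Nat.card_le_card_of_injective _ Subtype.val_injective
  have h4 : Nat.card (Fin m → F) = Nat.card F ^ m := by
    rw [Module.natCard_eq_pow_finrank (K := F), finrank_fin_fun]
  have h5 : 1 < Nat.card F := Finite.one_lt_card
  rw [h4, h2] at h1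
  have h6 : Nat.card F ^ m ≤ Nat.card F ^ (finrank F (perp q U) + finrank F U) := by
    rw [h1, pow_add]
    exact Nat.mul_le_mul_left _ h3
  exact (Nat.pow_le_pow_iff_right h5).1 h6

end proj

end Cfsg.Agent.H38.NP
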