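import Cfsg.Agent.H38.NP.Claim
import Cfsg.Agent.H817.DPi.Def
import Cfsg.Agent.S0071
import Cfsg.Agent.Lib.NilpotentCoprime

/-!
# Nilpotent `π`-subgroups of `GU_m(q)` (helper38)
-/

set_option autoImplicit false

namespace Cfsg.Agent.H38.NP

open Cfsg Subgroup Cfsg.Agent.H988.CPi
open Cfsg.Agent.H907 (ct mem_GU_iff_ct)
open scoped Matrix

/-- a finite group is nilpotent if the elements of prime power order centralize the `r`-subgroups which they normalize -/
theorem isNilpotent_of_local {G : Type*} [Group G] [Finite G]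
    (h : ∀ r s b : ℕ, r.Prime → s.Prime → r ≠ s → ∀ R : Subgroup G, IsPGroup r R → ∀ y ∈ normalizer (R : Set G),
      y ^ (s ^ b) = 1 → y ∈ centralizer (R : Set G)) : Group.IsNilpotent G := by
  classical
  -- elements of order prime to `r`
  have h1 : ∀ r : ℕ, r.Prime → ∀ R : Subgroup G, IsPGroup r R → ∀ g ∈ normalizer (R : Set G),
      Nat.Coprime (orderOf g) r → g ∈ centralizer (R : Set G) := by
    intro r hr R hR g hg hco
    have hex : ∃ n, 0 < n ∧ g ^ n ∈ centralizer (R : Set G) :=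
      ⟨orderOf g, orderOf_pos g, by rw [pow_orderOf_eq_one]; exact one_mem _⟩
    obtain ⟨hn0, hn⟩ := Nat.find_spec hex
    obtain ⟨n, hndef⟩ : ∃ n, n = Nat.find hex := ⟨_, rfl⟩
    rw [← hndef] at hn0 hn
    have hmin : ∀ k, 0 < k → g ^ k ∈ centralizer (R : Set G) → n ≤ k := by
      intro k hk hk'
      rw [hndef]
      exact Nat.find_min' hex ⟨hk, hk'⟩
    -- divisibility
    have hdvd : ∀ k, g ^ k ∈ centralizer (R : Set G) → n ∣ k := by
      intro k hk
      rw [Nat.dvd_iff_mod_eq_zero]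
      by_contra h0
      have h2 : g ^ (k % n) ∈ centralizer (R : Set G) := by
        have h3 : g ^ (k % n) = g ^ k * (g ^ n ^ 1) ^ (0 : ℕ) * ((g ^ n) ^ (k / n))⁻¹ := by
          rw [pow_zero, mul_one, eq_mul_inv_iff_mul_eq, ← pow_mul, ← pow_add, Nat.mod_add_div]
        rw [h3, pow_zero, mul_one]
        exact mul_mem hk (inv_mem (pow_mem hn _))
      have h3 := hmin _ (Nat.pos_of_ne_zero h0) h2
      have h4 := Nat.mod_lt k hn0
      omega
    by_cases hn1 : n = 1
    · rw [hn1, pow_one] at hn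
      exact hn
    exfalso
    obtain ⟨s, hs, hsn⟩ := Nat.exists_prime_and_dvd hn1
    have hso : s ∣ orderOf g := hsn.trans (hdvd _ (by rw [pow_orderOf_eq_one]; exact one_mem _))
    have hrs : r ≠ s := by
      rintro rfl
      have h2 := Nat.dvd_gcd hso dvd_rfl
      rw [Nat.coprime_iff_gcd_eq_one.1 hco] at h2
      exact hr.one_lt.ne' (Nat.dvd_one.1 h2)
    obtain ⟨b, t, hst, hot⟩ := Nat.exists_eq_pow_mul_and_not_dvd (orderOf_pos g).ne' s hs.ne_one
    have h2 := h r s b hr hs hrs R hR (g ^ t) (pow_mem hg t) (by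
      rw [← pow_mul, mul_comm, ← hot, pow_orderOf_eq_one])
    exact hst (hsn.trans (hdvd t h2))
  -- the normal complements
  refine ((Group.isNilpotent_of_finite_tfae (G := G)).out 0 3).2 ?_
  intro p hp P
  have hN : ∀ r : ℕ, r.Prime → ∃ N : Subgroup G, N.Normal ∧ ¬ r ∣ Nat.card N ∧ ∀ x : G, Nat.Coprime (orderOf x) r → x ∈ N := by
    intro r hr
    haveI : Fact r.Prime := ⟨hr⟩
    obtain ⟨S⟩ : Nonempty (Sylow r G) := inferInstance
    obtain ⟨N, hNn, hNc⟩ := (Cfsg.Agent.S0071.result S).2 fun Q hQ g hg hco =>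
      h1 r hr Q (S.2.to_le hQ) g hg hco
    have h2 := hNc.symm.index_eq_card
    have h3 : Nat.card N = (S : Subgroup G).index := hNc.index_eq_card.symm
    refine ⟨N, hNn, ?_, fun x hx => ?_⟩
    · rw [h3]
      exact S.not_dvd_index
    · obtain ⟨k, hk⟩ := IsPGroup.iff_card.1 S.2
      rw [hk] at h2
      have h4 : orderOf (x : G ⧸ N) ∣ r ^ k := by
        rw [← h2, Subgroup.index_eq_card]
        exact orderOf_dvd_natCard _
      have h5 : orderOf (x : G ⧸ N) ∣ orderOf x := orderOf_map_dvd (QuotientGroup.mk' N) x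
      have h6 := Nat.dvd_gcd h5 h4
      rw [Nat.coprime_iff_gcd_eq_one.1 (Nat.Coprime.pow_right k hx)] at h6
      rw [← QuotientGroup.eq_one_iff, ← orderOf_eq_one_iff]
      exact Nat.dvd_one.1 h6
  choose! N hNn hNr hNx using hN
  -- the intersection of the complements
  obtain ⟨D, hD⟩ : ∃ D : Subgroup G, D = ⨅ r : {r : ℕ // r.Prime ∧ r ≠ p}, N r.1 := ⟨_, rfl⟩
  have hDn : D.Normal := by
    rw [hD]
    haveI : ∀ r : {r : ℕ // r.Prime ∧ r ≠ p}, (N r.1).Normal := fun r => hNn r.1 r.2.1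
    exact Subgroup.normal_iInf_normal inferInstance
  have hDP : IsPGroup p D := by
    refine IsPGroup.of_card (Nat.eq_prime_pow_of_unique_prime_dvd Nat.card_pos.ne' ?_)
    intro r hr hrD
    by_contra hrp
    apply hNr r hr
    refine hrD.trans (card_dvd_of_le ?_)
    rw [hD]
    exact iInf_le (fun r : {r : ℕ // r.Prime ∧ r ≠ p} => N r.1) ⟨r, hr, hrp⟩
  have hPD : (P : Subgroup G) ≤ D := by
    intro x hx
    rw [hD, Subgroup.mem_iInf]
    rintro ⟨r, hr, hrp⟩
    apply hNx r hr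
    obtain ⟨k, hk⟩ := P.2 ⟨x, hx⟩
    have h2 : x ^ p ^ k = 1 := congrArg Subtype.val hk
    exact Nat.Coprime.coprime_dvd_left (orderOf_dvd_of_pow_eq_one h2)
      (Nat.Coprime.pow_left _ ((Nat.coprime_primes hp.out hr).2 hrp.symm))
  have h2 := P.3 hDP hPD
  rw [← h2]
  exact hDn

/-- order of a product `HN` with `H` normalizing `N` -/
theorem card_sup_dvd {G : Type*} [Group G] (H N : Subgroup G) (h : H ≤ normalizer (N : Set G)) :
    Nat.card ↥(H ⊔ N) ∣ Nat.card H * Nat.card N := by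
  let _ := Subgroup.normal_subgroupOf_of_le_normalizer h
  let _ := Subgroup.normal_subgroupOf_sup_of_le_normalizer h
  have e := (QuotientGroup.quotientInfEquivProdNormalizerQuotient H N h).toEquiv
  have h1 : (N.subgroupOf H).index = (N.subgroupOf (H ⊔ N)).index := Nat.card_congr e
  have h2 := Subgroup.card_mul_index (N.subgroupOf (H ⊔ N))
  rw [Nat.card_congr (Subgroup.subgroupOfEquivOfLe (le_sup_right : N ≤ H ⊔ N)).toEquiv, ← h1] at h2
  rw [← h2, mul_comm]
  exact Nat.mul_dvd_mul (Subgroup.index_dvd_card _) dvd_rfl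

theorem det_pow_succ {F : Type*} [Field F] [Fintype F] {m q : ℕ} (hF : Fintype.card F = q ^ 2) {g : GL (Fin m) F}
    (hg : g ∈ GU m F q) : (g : Matrix (Fin m) (Fin m) F).det ^ (q + 1) = 1 := by
  have h1 := (mem_GU_iff_ct hF).1 hg
  have h2 := congrArg Matrix.det h1
  have h3 : ct q (g : Matrix (Fin m) (Fin m) F) =
      ((LieClassical.HermBasic.conj hF).toRingHom.mapMatrix (g : Matrix (Fin m) (Fin m) F))ᵀ := by
    ext i j
    rfl
  rw [Matrix.det_mul, h3, Matrix.det_transpose, ← RingHom.map_det, Matrix.det_one] at h2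
  rw [pow_succ]
  exact h2

variable {π : Set ℕ}

/-- **nilpotent `π`-subgroups** -/
theorem nil_gu {F : Type} [Field F] [Fintype F] {m q : ℕ} (hF : Fintype.card F = q ^ 2) (h2 : 2 ∉ π)
    (hp : ∀ r ∈ π, r.Prime → (r : F) ≠ 0)
    (h : ∀ X : Subgroup (Cfsg.GU m F q), PiN π (Nat.card X) → (∀ g ∈ X, (g.1.1 : Matrix (Fin m) (Fin m) F).det = 1) →
      Group.IsNilpotent X) :
    ∀ X : Subgroup (Cfsg.GU m F q), PiN π (Nat.card X) → Group.IsNilpotent X := by
  classical
  intro X hX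
  haveI : Finite (GL (Fin m) F) := inferInstance
  obtain ⟨δ, hδ⟩ : ∃ δ : GU m F q →* Fˣ, δ = Matrix.GeneralLinearGroup.det.comp (GU m F q).subtype := ⟨_, rfl⟩
  have hδv : ∀ g : GU m F q, ((δ g : Fˣ) : F) = (g.1.1 : Matrix (Fin m) (Fin m) F).det := fun g => by rw [hδ]; rfl
  -- the key: in `GU`
  have key : ∀ r s b : ℕ, r ∈ π → s ∈ π → r.Prime → s.Prime → r ≠ s → ∀ R : Subgroup (GU m F q), IsPGroup r R →
      ∀ y ∈ normalizer (R : Set (GU m F q)), y ^ (s ^ b) = 1 → ∀ g ∈ R, y * g = g * y := by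
    intro r s b hrπ hsπ hr hs hrs R hR y hy hyb
    haveI : Fact r.Prime := ⟨hr⟩
    have hyR : ∀ g ∈ R, y * g * y⁻¹ ∈ R := fun g hg => (Subgroup.mem_normalizer_iff.1 hy g).1 hg
    -- `R1`
    obtain ⟨R1, hR1⟩ : ∃ R1, R1 = R ⊓ δ.ker := ⟨_, rfl⟩
    have hR1le : R1 ≤ R := by rw [hR1]; exact inf_le_left
    have hR1δ : ∀ g ∈ R1, δ g = 1 := fun g hg => by
      rw [hR1] at hg
      exact hg.2
    have hR1p : IsPGroup r R1 := hR.to_le hR1le
    have hyR1 : ∀ g ∈ R1, y * g * y⁻¹ ∈ R1 := by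
      intro g hg
      rw [hR1]
      refine ⟨hyR g (hR1le hg), ?_⟩
      show y * g * y⁻¹ ∈ δ.ker
      rw [MonoidHom.mem_ker, map_mul, map_mul, hR1δ g hg, mul_one, map_inv, mul_inv_cancel]
    have hyN : y ∈ normalizer (R1 : Set (GU m F q)) := by
      refine Subgroup.mem_normalizer_iff.2 fun g => ⟨hyR1 g, fun hg => ?_⟩
      rw [hR1] at hg ⊢
      refine ⟨(Subgroup.mem_normalizer_iff.1 hy g).2 hg.1, ?_⟩
      have h3 : δ (y * g * y⁻¹) = 1 := hg.2
      rw [map_mul, map_mul, map_inv, mul_comm (δ y), mul_inv_cancel_right] at h3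
      exact h3
    -- powers of `y`
    have hyk : ∀ k, ∀ g ∈ R1, y ^ k * g * (y ^ k)⁻¹ ∈ R1 := by
      intro k
      induction k with
      | zero =>
        intro g hg
        rwa [pow_zero, one_mul, inv_one, mul_one]
      | succ k ih =>
        intro g hg
        have h3 : y ^ (k + 1) * g * (y ^ (k + 1))⁻¹ = y ^ k * (y * g * y⁻¹) * (y ^ k)⁻¹ := by
          rw [pow_succ]
          group
        rw [h3]
        exact ih _ (hyR1 g hg)
    -- `y` centralizes `R1`
    have hcent : ∀ g ∈ R1, y * g = g * y := by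
      rcases Nat.eq_zero_or_pos m with hm | hm
      · subst hm
        intro g _
        apply Subtype.ext
        apply Units.ext
        exact Subsingleton.elim _ _
      obtain ⟨c, hc, hcR, hcd⟩ := exists_cent (R := R1.map (GU m F q).subtype) (b := b) hF hm
        (fun hr2 => h2 (hr2 ▸ hrπ)) hs hrs (hp r hrπ hr) (by
          rintro _ ⟨g, -, rfl⟩
          exact g.2) (hR1p.map _) (l := (y.1.1 : Matrix (Fin m) (Fin m) F).det) (det_pow_succ hF y.2) (by
          rw [← hδv, ← Units.val_pow_eq_pow_val, ← map_pow, hyb, map_one, Units.val_one])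
      obtain ⟨c', hc'⟩ : ∃ c' : GU m F q, c' = ⟨c, hc⟩ := ⟨_, rfl⟩
      have hδc : δ c' = δ y := by
        apply Units.ext
        rw [hδv, hδv, hc', hcd]
      have hcR' : ∀ g ∈ R1, c' * g = g * c' := by
        intro g hg
        apply Subtype.ext
        rw [hc']
        exact hcR g.1 ⟨g, hg, rfl⟩
      obtain ⟨w, hw⟩ : ∃ w, w = y * c'⁻¹ := ⟨_, rfl⟩
      have hwδ : δ w = 1 := by rw [hw, map_mul, map_inv, hδc, mul_inv_cancel]
      have hwact : ∀ g ∈ R1, w * g * w⁻¹ = y * g * y⁻¹ := by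
        intro g hg
        have h3 : c'⁻¹ * g * c' = g := by
          rw [mul_assoc, ← hcR' g hg, inv_mul_cancel_left]
        rw [hw]
        calc y * c'⁻¹ * g * (y * c'⁻¹)⁻¹ = y * (c'⁻¹ * g * c') * y⁻¹ := by group
          _ = y * g * y⁻¹ := by rw [h3]
      have hwk : ∀ k, ∀ g ∈ R1, w ^ k * g * (w ^ k)⁻¹ = y ^ k * g * (y ^ k)⁻¹ := by
        intro k
        induction k with
        | zero => intro g _; rw [pow_zero, pow_zero]
        | succ k ih =>
          intro g hg
          have h3 : w ^ (k + 1) * g * (w ^ (k + 1))⁻¹ = w ^ k * (w * g * w⁻¹) * (w ^ k)⁻¹ := by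
            rw [pow_succ]
            group
          have h4 : y ^ (k + 1) * g * (y ^ (k + 1))⁻¹ = y ^ k * (y * g * y⁻¹) * (y ^ k)⁻¹ := by
            rw [pow_succ]
            group
          rw [h3, h4, hwact g hg, ih _ (hyR1 g hg)]
      obtain ⟨e, u, hsu, hou⟩ := Nat.exists_eq_pow_mul_and_not_dvd (orderOf_pos w).ne' s hs.ne_one
      have hco : (s ^ b).Coprime u := Nat.Coprime.pow_left _ ((Nat.Prime.coprime_iff_not_dvd hs).2 hsu)
      obtain ⟨k, hk1, hk2⟩ := Nat.chineseRemainder hco 1 0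
      obtain ⟨z, hz⟩ : ∃ z, z = w ^ k := ⟨_, rfl⟩
      have hzδ : δ z = 1 := by rw [hz, map_pow, hwδ, one_pow]
      have hzo : z ^ (s ^ e) = 1 := by
        obtain ⟨j, hj⟩ := (Nat.modEq_zero_iff_dvd.1 hk2)
        rw [hz, hj, ← pow_mul, mul_right_comm, mul_comm u, ← hou, pow_mul, pow_orderOf_eq_one, one_pow]
      have hyk1 : y ^ k = y := by
        have h3 : y ^ k = y ^ 1 := by
          rw [pow_eq_pow_iff_modEq]
          exact hk1.of_dvd (orderOf_dvd_of_pow_eq_one hyb)
        rw [h3, pow_one]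
      have hzact : ∀ g ∈ R1, z * g * z⁻¹ = y * g * y⁻¹ := by
        intro g hg
        rw [hz, hwk k g hg, hyk1]
      -- the subgroup
      have hzn : zpowers z ≤ normalizer (R1 : Set (GU m F q)) := by
        rw [zpowers_le]
        rw [hz]
        refine Subgroup.mem_normalizer_iff.2 fun g => ⟨fun hg => ?_, fun hg => ?_⟩
        · rw [hwk k g hg]
          exact hyk k g hg
        · have h3 : (y ^ k)⁻¹ * (w ^ k * g * (w ^ k)⁻¹) * y ^ k ∈ R1 :=
            (Subgroup.mem_normalizer_iff''.1 (pow_mem hyN k) _).1 hg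
          have h4 := hwk k _ h3
          have h5 : y ^ k * ((y ^ k)⁻¹ * (w ^ k * g * (w ^ k)⁻¹) * y ^ k) * (y ^ k)⁻¹ = w ^ k * g * (w ^ k)⁻¹ := by
            group
          rw [h5] at h4
          have h6 := mul_left_cancel (mul_right_cancel h4)
          rwa [← h6]
      obtain ⟨X', hX'⟩ : ∃ X', X' = zpowers z ⊔ R1 := ⟨_, rfl⟩
      have hX'n : Group.IsNilpotent X' := by
        apply h
        · intro l hl hlX
          rw [hX'] at hlX
          have h3 := hlX.trans (card_sup_dvd _ _ hzn)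
          rw [Nat.card_zpowers] at h3
          rcases (Nat.Prime.dvd_mul hl).1 h3 with h4 | h4
          · have h5 := h4.trans (orderOf_dvd_of_pow_eq_one hzo)
            have h6 : l = s := (Nat.prime_dvd_prime_iff_eq hl hs).1 (hl.dvd_of_dvd_pow h5)
            rwa [h6]
          · obtain ⟨n, hn⟩ := IsPGroup.iff_card.1 hR1p
            rw [hn] at h4
            have h6 : l = r := (Nat.prime_dvd_prime_iff_eq hl hr).1 (hl.dvd_of_dvd_pow h4)
            rwa [h6]
        · intro g hg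
          have h3 : X' ≤ δ.ker := by
            rw [hX', sup_le_iff, zpowers_le]
            exact ⟨hzδ, fun g hg => hR1δ g hg⟩
          rw [← hδv, MonoidHom.mem_ker.1 (h3 hg), Units.val_one]
      intro g hg
      have hgo : ∃ n, g ^ (r ^ n) = 1 := by
        obtain ⟨n, hn⟩ := hR1p ⟨g, hg⟩
        exact ⟨n, congrArg Subtype.val hn⟩
      obtain ⟨n, hn⟩ := hgo
      have hzX : z ∈ X' := by rw [hX']; exact (le_sup_left : zpowers z ≤ _) (mem_zpowers z)
      have hgX : g ∈ X' := by rw [hX']; exact (le_sup_right : R1 ≤ _) hg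
      have h3 : Commute (⟨z, hzX⟩ : X') ⟨g, hgX⟩ := by
        refine Cfsg.Agent.Lib.NilpotentCoprime.commute_of_pow_eq_one (m := s ^ e) (n := r ^ n) ?_ ?_ ?_
        · exact Nat.Coprime.pow _ _ ((Nat.coprime_primes hs hr).2 hrs.symm)
        · exact Subtype.ext hzo
        · exact Subtype.ext hn
      have h4 : z * g = g * z := congrArg Subtype.val h3
      have h5 := hzact g hg
      rw [h4, mul_inv_cancel_right] at h5
      exact (mul_inv_eq_iff_eq_mul.1 h5.symm)
    -- `y` centralizes `R`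
    intro g hg
    obtain ⟨u, hu⟩ : ∃ u, u = y * g * y⁻¹ * g⁻¹ := ⟨_, rfl⟩
    have huR : u ∈ R := by
      rw [hu]
      exact R.mul_mem (hyR g hg) (R.inv_mem hg)
    have huR1 : u ∈ R1 := by
      rw [hR1]
      refine ⟨huR, ?_⟩
      show u ∈ δ.ker
      rw [MonoidHom.mem_ker, hu, map_mul, map_mul, map_mul, map_inv, map_inv, mul_right_comm (δ y), mul_inv_cancel,
        one_mul, mul_inv_cancel]
    have huy := hcent u huR1
    have hyg : y * g * y⁻¹ = u * g := by rw [hu, inv_mul_cancel_right]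
    have hpow : ∀ k, y ^ k * g * (y ^ k)⁻¹ = u ^ k * g := by
      intro k
      induction k with
      | zero => simp
      | succ k ih =>
        have h3 : y ^ (k + 1) * g * (y ^ (k + 1))⁻¹ = y * (y ^ k * g * (y ^ k)⁻¹) * y⁻¹ := by
          rw [pow_succ']
          group
        have h4 : y * u ^ k = u ^ k * y := ((show Commute y u from huy).pow_right k).eq
        rw [h3, ih, ← mul_assoc, h4, mul_assoc (u ^ k), mul_assoc (u ^ k), hyg, ← mul_assoc, ← pow_succ]
    have h3 := hpow (s ^ b)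
    rw [hyb, one_mul, inv_one, mul_one] at h3
    have h4 : u ^ (s ^ b) = 1 := by
      have h5 : u ^ (s ^ b) * g = 1 * g := by rw [one_mul, ← h3]
      exact mul_right_cancel h5
    obtain ⟨n, hn⟩ := hR ⟨u, huR⟩
    have h5 : u ^ (r ^ n) = 1 := congrArg Subtype.val hn
    have h6 := Nat.dvd_gcd (orderOf_dvd_of_pow_eq_one h4) (orderOf_dvd_of_pow_eq_one h5)
    rw [Nat.coprime_iff_gcd_eq_one.1 (Nat.Coprime.pow b n ((Nat.coprime_primes hs hr).2 hrs.symm))] at h6
    have h7 : u = 1 := orderOf_eq_one_iff.1 (Nat.dvd_one.1 h6)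
    rw [h7, one_mul] at hyg
    exact mul_inv_eq_iff_eq_mul.1 hyg
  -- the end
  apply isNilpotent_of_local
  intro r s b hr hs hrs R hR y hy hyb
  rw [Subgroup.mem_centralizer_iff]
  intro g hg
  by_cases hg1 : g = 1
  · rw [hg1, one_mul, mul_one]
  by_cases hy1 : y = 1
  · rw [hy1, one_mul, mul_one]
  have hrπ : r ∈ π := by
    apply hX r hr
    obtain ⟨n, hn⟩ := hR ⟨g, hg⟩
    have h3 : g ^ (r ^ n) = 1 := congrArg Subtype.val hn
    obtain ⟨t, -, ht⟩ := (Nat.dvd_prime_pow hr).1 (orderOf_dvd_of_pow_eq_one h3)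
    have ht0 : t ≠ 0 := by
      rintro rfl
      rw [pow_zero, orderOf_eq_one_iff] at ht
      exact hg1 ht
    exact (dvd_pow_self r ht0).trans (ht ▸ orderOf_dvd_natCard g)
  have hsπ : s ∈ π := by
    apply hX s hs
    obtain ⟨t, -, ht⟩ := (Nat.dvd_prime_pow hs).1 (orderOf_dvd_of_pow_eq_one hyb)
    have ht0 : t ≠ 0 := by
      rintro rfl
      rw [pow_zero, orderOf_eq_one_iff] at ht
      exact hy1 ht
    exact (dvd_pow_self s ht0).trans (ht ▸ orderOf_dvd_natCard y)
  have h3 := key r s b hrπ hsπ hr hs hrs (R.map X.subtype) (hR.map _) y.1 (by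
    refine Subgroup.mem_normalizer_iff.2 fun g => ⟨?_, ?_⟩
    · rintro ⟨x, hx, rfl⟩
      exact ⟨y * x * y⁻¹, (Subgroup.mem_normalizer_iff.1 hy x).1 hx, rfl⟩
    · rintro ⟨x, hx, hxg⟩
      refine ⟨y⁻¹ * x * y, (Subgroup.mem_normalizer_iff''.1 hy x).1 hx, ?_⟩
      have h3 : ((x : X) : GU m F q) = y.1 * g * y.1⁻¹ := hxg
      show y.1⁻¹ * x.1 * y.1 = g
      rw [h3]
      group) (congrArg Subtype.val hyb) g.1 ⟨g, hg, rfl⟩
  exact Subtype.ext h3.symm

end Cfsg.Agent.H38.NP
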