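import Cfsg.Agent.H38.NP.Herm

/-!
# An irreducible projection which is self-adjoint or orthogonal to its adjoint (helper38)
-/

set_option autoImplicit false

namespace Cfsg.Agent.H38.NP

open Cfsg Module Cfsg.Agent.LieClassical.HermBasic
open scoped Matrix

variable {F : Type*} [Field F] [Fintype F] {m q : ℕ}

/-- the action -/
noncomputable def act (R : Subgroup (GL (Fin m) F)) : R →* Module.End F (Fin m → F) :=
  (Matrix.toLinAlgEquiv' : Matrix (Fin m) (Fin m) F ≃ₐ[F] _).toMulEquiv.toMonoidHom.comp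
    ((Units.coeHom _).comp R.subtype)

theorem act_apply (R : Subgroup (GL (Fin m) F)) (g : R) (v : Fin m → F) :
    act R g v = ((g : GL (Fin m) F) : Matrix (Fin m) (Fin m) F) *ᵥ v := rfl

theorem act_inv_apply (R : Subgroup (GL (Fin m) F)) (g : R) (v : Fin m → F) : act R g (act R g⁻¹ v) = v := by
  rw [← Module.End.mul_apply, ← map_mul, mul_inv_cancel, map_one]
  rfl

theorem act_inv_apply' (R : Subgroup (GL (Fin m) F)) (g : R) (v : Fin m → F) : act R g⁻¹ (act R g v) = v := by
  rw [← Module.End.mul_apply, ← map_mul, inv_mul_cancel, map_one]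
  rfl

/-- invariant subspaces -/
def IsInv (R : Subgroup (GL (Fin m) F)) (U : Submodule F (Fin m → F)) : Prop := ∀ g : R, ∀ u ∈ U, act R g u ∈ U

variable {R : Subgroup (GL (Fin m) F)}

theorem IsInv.inf {U U' : Submodule F (Fin m → F)} (h : IsInv R U) (h' : IsInv R U') : IsInv R (U ⊓ U') :=
  fun g u hu => ⟨h g u hu.1, h' g u hu.2⟩

/-- Maschke -/
theorem maschke (hc : (Nat.card R : F) ≠ 0) {U : Submodule F (Fin m → F)} (hU : IsInv R U) :
    ∃ P : Module.End F (Fin m → F), (∀ v, P v ∈ U) ∧ (∀ u ∈ U, P u = u) ∧ ∀ g, P * act R g = act R g * P := by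
  classical
  haveI : Fintype R := Fintype.ofFinite R
  obtain ⟨U', hUU'⟩ := U.exists_isCompl
  obtain ⟨P0, h0, h1⟩ : ∃ P0 : Module.End F (Fin m → F), (∀ v, P0 v ∈ U) ∧ ∀ u ∈ U, P0 u = u := by
    refine ⟨U.subtype ∘ₗ Submodule.projectionOnto U U' hUU', fun v => Submodule.coe_mem _, fun u hu => ?_⟩
    have := Submodule.projectionOnto_apply_left hUU' ⟨u, hu⟩
    show ((Submodule.projectionOnto U U' hUU' u : U) : Fin m → F) = u
    rw [this]
  refine ⟨(Nat.card R : F)⁻¹ • ∑ g : R, act R g * P0 * act R g⁻¹, fun v => ?_, fun u hu => ?_, fun h => ?_⟩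
  · rw [LinearMap.smul_apply, LinearMap.sum_apply]
    exact U.smul_mem _ (U.sum_mem fun g _ => hU g _ (h0 _))
  · rw [LinearMap.smul_apply, LinearMap.sum_apply]
    have h2 : ∀ g : R, (act R g * P0 * act R g⁻¹) u = u := by
      intro g
      rw [Module.End.mul_apply, Module.End.mul_apply, h1 _ (hU g⁻¹ u hu), act_inv_apply]
    rw [Finset.sum_congr rfl (fun g _ => h2 g), Finset.sum_const, Finset.card_univ, ← Nat.card_eq_fintype_card,
      ← Nat.cast_smul_eq_nsmul F, smul_smul, inv_mul_cancel₀ hc, one_smul]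
  · rw [smul_mul_assoc, mul_smul_comm, Finset.sum_mul, Finset.mul_sum]
    congr 1
    refine Fintype.sum_equiv (Equiv.mulLeft h⁻¹) _ _ fun g => ?_
    have e1 : act R h * act R (h⁻¹ * g) = act R g := by rw [← map_mul, mul_inv_cancel_left]
    have e2 : act R (h⁻¹ * g)⁻¹ = act R g⁻¹ * act R h := by rw [← map_mul, mul_inv_rev, inv_inv]
    rw [Equiv.coe_mulLeft, e2]
    calc act R g * P0 * act R g⁻¹ * act R h = act R g * P0 * (act R g⁻¹ * act R h) := by rw [mul_assoc]
      _ = (act R h * act R (h⁻¹ * g)) * P0 * (act R g⁻¹ * act R h) := by rw [e1]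
      _ = act R h * (act R (h⁻¹ * g) * P0 * (act R g⁻¹ * act R h)) := by simp only [mul_assoc]

section unitary

variable (hF : Fintype.card F = q ^ 2) (hU : R ≤ GU m F q)
include hF hU

omit hF in
theorem herm_act (g : R) (u v : Fin m → F) : hermForm m F q (act R g u) (act R g v) = hermForm m F q u v :=
  hU g.2 u v

theorem adj_act (g : R) : adj q (act R g) = act R g⁻¹ := by
  apply end_ext hF
  intro u v
  rw [← herm_adj hF, ← herm_act hU g u, act_inv_apply]

omit hF in
theorem IsInv.perp {U : Submodule F (Fin m → F)} (h : IsInv R U) : IsInv R (perp q U) := by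
  intro g v hv
  rw [mem_perp] at hv ⊢
  intro u hu
  have h1 := hv _ (h g⁻¹ u hu)
  rw [← herm_act hU g, act_inv_apply] at h1
  exact h1

/-- the projection -/
theorem exists_proj (hm : 0 < m) (hc : (Nat.card R : F) ≠ 0) :
    ∃ P : Module.End F (Fin m → F), P * P = P ∧ (∀ g, P * act R g = act R g * P) ∧ P ≠ 0 ∧
      (∀ U, IsInv R U → U ≤ LinearMap.range P → U = ⊥ ∨ U = LinearMap.range P) ∧
      (adj q P = P ∨ (adj q P * P = 0 ∧ P * adj q P = 0)) := by
  classical
  -- a nonzero invariant subspace of least dimension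
  have hex : ∃ n, ∃ U, IsInv R U ∧ U ≠ ⊥ ∧ finrank F U = n := by
    refine ⟨_, ⊤, fun g u _ => Submodule.mem_top, ?_, rfl⟩
    haveI : Nonempty (Fin m) := ⟨⟨0, hm⟩⟩
    exact top_ne_bot
  obtain ⟨W, hWi, hW0, hWd⟩ := Nat.find_spec hex
  have hmin : ∀ U, IsInv R U → U ≠ ⊥ → finrank F W ≤ finrank F U := by
    intro U h1 h2
    rw [hWd]
    exact Nat.find_min' hex ⟨U, h1, h2, rfl⟩
  -- minimality
  have hirr : ∀ W' : Submodule F (Fin m → F), finrank F W' ≤ finrank F W → ∀ U, IsInv R U → U ≤ W' → U = ⊥ ∨ U = W' := by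
    intro W' hW' U h1 h2
    by_cases h0 : U = ⊥
    · exact Or.inl h0
    · right
      exact Submodule.eq_of_le_of_finrank_le h2 (hW'.trans (hmin U h1 h0))
  -- a nondegenerate subspace of least dimension
  have key : ∀ W' : Submodule F (Fin m → F), IsInv R W' → W' ≠ ⊥ → finrank F W' ≤ finrank F W → W' ⊓ NP.perp q W' = ⊥ →
      ∃ P : Module.End F (Fin m → F), P * P = P ∧ (∀ g, P * act R g = act R g * P) ∧ P ≠ 0 ∧
      (∀ U, IsInv R U → U ≤ LinearMap.range P → U = ⊥ ∨ U = LinearMap.range P) ∧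
      (adj q P = P ∨ (adj q P * P = 0 ∧ P * adj q P = 0)) := by
    intro W' hi h0 hd hnd
    have hcompl : IsCompl W' (NP.perp q W') := by
      refine ⟨disjoint_iff.2 hnd, codisjoint_iff.2 ?_⟩
      apply Submodule.eq_top_of_finrank_eq
      have h1 := Submodule.finrank_sup_add_finrank_inf_eq W' (NP.perp q W')
      rw [hnd, finrank_bot, add_zero] at h1
      have h2 := finrank_perp hF W'
      have h3 := Submodule.finrank_le (W' ⊔ NP.perp q W')
      rw [finrank_fin_fun] at h3 ⊢
      omega
    obtain ⟨P, hP⟩ : ∃ P : Module.End F (Fin m → F), P = W'.subtype ∘ₗ Submodule.projectionOnto W' _ hcompl :=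
      ⟨_, rfl⟩
    have hPW : ∀ v, P v ∈ W' := fun v => by
      rw [hP]
      exact Submodule.coe_mem _
    have hP1 : ∀ u ∈ W', P u = u := fun u hu => by
      have := Submodule.projectionOnto_apply_left hcompl ⟨u, hu⟩
      rw [hP]
      show ((Submodule.projectionOnto W' _ hcompl u : W') : Fin m → F) = u
      rw [this]
    have hP0 : ∀ u ∈ NP.perp q W', P u = 0 := fun u hu => by
      have := Submodule.projectionOnto_apply_right hcompl ⟨u, hu⟩
      rw [hP]
      show ((Submodule.projectionOnto W' _ hcompl u : W') : Fin m → F) = 0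
      rw [this]
      rfl
    have hdec : ∀ v, v - P v ∈ NP.perp q W' := by
      intro v
      have h1 : v ∈ W' ⊔ NP.perp q W' := by
        rw [codisjoint_iff.1 hcompl.2]
        exact Submodule.mem_top
      obtain ⟨a, ha, b, hb, rfl⟩ := Submodule.mem_sup.1 h1
      rw [map_add, hP1 a ha, hP0 b hb, add_zero, add_sub_cancel_left]
      exact hb
    have hrange : LinearMap.range P = W' := by
      apply le_antisymm
      · rintro _ ⟨v, rfl⟩
        exact hPW v
      · intro u hu
        exact ⟨u, hP1 u hu⟩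
    refine ⟨P, ?_, ?_, ?_, ?_, Or.inl ?_⟩
    · ext1 i
      ext1
      show P (P _) = P _
      exact hP1 _ (hPW _)
    · intro g
      refine LinearMap.ext fun v => ?_
      rw [Module.End.mul_apply, Module.End.mul_apply]
      have h1 : act R g v = act R g (P v) + act R g (v - P v) := by rw [← map_add, add_sub_cancel]
      rw [h1, map_add, hP1 _ (hi g _ (hPW v)), hP0 _ (IsInv.perp hU hi g _ (hdec v)), add_zero]
    · intro h1
      apply h0
      rw [← hrange, h1, LinearMap.range_zero]
    · intro U h1 h2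
      rw [hrange] at h2 ⊢
      exact hirr W' hd U h1 h2
    · apply end_ext hF
      intro u v
      rw [← herm_adj hF]
      have h1 : hermForm m F q (P u) (v - P v) = 0 :=
        herm_eq_zero_swap hF (hdec v _ (hPW u))
      have h2 : hermForm m F q (u - P u) (P v) = 0 := hdec u _ (hPW v)
      rw [herm_sub_right hF, sub_eq_zero] at h1
      rw [herm_sub_left, sub_eq_zero] at h2
      rw [h1, h2]
  obtain ⟨P, hPW, hP1, hPc⟩ := maschke hc hWi
  have hrange : LinearMap.range P = W := by
    apply le_antisymm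
    · rintro _ ⟨v, rfl⟩
      exact hPW v
    · intro u hu
      exact ⟨u, hP1 u hu⟩
  have hPP : P * P = P := LinearMap.ext fun v => hP1 _ (hPW v)
  have hPne : P ≠ 0 := by
    intro h1
    apply hW0
    rw [← hrange, h1, LinearMap.range_zero]
  -- the dual subspace
  obtain ⟨W', hW'⟩ : ∃ W', W' = LinearMap.range (adj q P) := ⟨_, rfl⟩
  have hQQ : adj q P * adj q P = adj q P := by rw [← adj_mul hF, hPP]
  have hQc : ∀ g, adj q P * act R g = act R g * adj q P := by
    intro g
    have h1 := congrArg (adj q) (hPc g⁻¹)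
    rw [adj_mul hF, adj_mul hF, adj_act hF hU, inv_inv] at h1
    exact h1.symm
  have hW'i : IsInv R W' := by
    rintro g _ hu
    rw [hW'] at hu ⊢
    obtain ⟨v, rfl⟩ := hu
    refine ⟨act R g v, ?_⟩
    rw [← Module.End.mul_apply, hQc, Module.End.mul_apply]
  have hW'0 : W' ≠ ⊥ := by
    intro h1
    rw [hW', LinearMap.range_eq_bot] at h1
    apply hPne
    rw [← adj_adj hF P, h1, adj_zero hF]
  have hW'd : finrank F W' ≤ finrank F W := by
    have h1 : Nat.card W' ≤ Nat.card (W →ₗ[F] F) := by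
      have : Finite (W →ₗ[F] F) := Module.finite_of_finite F
      refine Nat.card_le_card_of_injective (fun w => pairing q W hF (w : Fin m → F)) ?_
      intro a b hab
      apply Subtype.ext
      rw [← sub_eq_zero]
      have h2 : pairing q W hF ((a : Fin m → F) - b) = 0 := by
        rw [map_sub]
        exact sub_eq_zero.2 hab
      rw [pairing_eq_zero_iff, mem_perp] at h2
      have h3 : adj q P ((a : Fin m → F) - b) = (a : Fin m → F) - b := by
        have h4 : ∀ w ∈ W', adj q P w = w := by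
          intro w hw
          rw [hW'] at hw
          obtain ⟨v, rfl⟩ := hw
          rw [← Module.End.mul_apply, hQQ]
        exact h4 _ (W'.sub_mem a.2 b.2)
      apply herm_nondeg hF
      intro v
      rw [← h3, herm_adj' hF]
      exact h2 _ (hPW v)
    rw [card_dual, Module.natCard_eq_pow_finrank (K := F)] at h1
    exact (Nat.pow_le_pow_iff_right Finite.one_lt_card).1 h1
  by_cases hnd : W ⊓ NP.perp q W = ⊥
  · exact key W hWi hW0 le_rfl hnd
  by_cases hnd' : W' ⊓ NP.perp q W' = ⊥
  · exact key W' hW'i hW'0 hW'd hnd'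
  -- both are totally isotropic
  have hti : ∀ u ∈ W, ∀ v ∈ W, hermForm m F q u v = 0 := by
    intro u hu v hv
    have h1 := (hirr W le_rfl _ (hWi.inf (IsInv.perp hU hWi)) inf_le_left).resolve_left hnd
    have h2 : u ∈ W ⊓ NP.perp q W := by rw [h1]; exact hu
    exact h2.2 v hv
  have hti' : ∀ u ∈ W', ∀ v ∈ W', hermForm m F q u v = 0 := by
    intro u hu v hv
    have h1 := (hirr W' hW'd _ (hW'i.inf (IsInv.perp hU hW'i)) inf_le_left).resolve_left hnd'
    have h2 : u ∈ W' ⊓ NP.perp q W' := by rw [h1]; exact hu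
    exact h2.2 v hv
  refine ⟨P, hPP, hPc, hPne, ?_, Or.inr ⟨?_, ?_⟩⟩
  · intro U h1 h2
    rw [hrange] at h2 ⊢
    exact hirr W le_rfl U h1 h2
  · apply end_ext hF
    intro u v
    rw [Module.End.mul_apply, ← herm_adj hF, hti _ (hPW u) _ (hPW v), LinearMap.zero_apply, herm_zero_right hF]
  · apply end_ext hF
    intro u v
    rw [Module.End.mul_apply, ← herm_adj' hF, LinearMap.zero_apply, herm_zero_right hF]
    refine hti' _ ?_ _ ?_
    · rw [hW']; exact ⟨u, rfl⟩
    · rw [hW']; exact ⟨v, rfl⟩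

end unitary

end Cfsg.Agent.H38.NP
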